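import Cfsg.Agent.H939.L64.DefR

/-!
# S5916: the multiplicities of the eigenvalues of the elements of order 17 and 15 determine the composition factors
(helper179)
-/

set_option autoImplicit false
set_option maxRecDepth 100000

namespace Cfsg.Agent.H179.L16

open Cfsg.Agent.H939.L64 (subm)

/-- multiplicities of the eigenvalues of `y` (order 17) on `V_b` : the weights are `2 m - b`, `m` a submask of `b` -/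
def w17 (b j : ℕ) : ℕ := ((subm b).filter fun m => (2 * m + 16 * b) % 17 == j).length

/-- multiplicities of the eigenvalues of `h lam` (order 15) on `V_b` -/
def w15 (b j : ℕ) : ℕ := ((subm b).filter fun m => (2 * m + 14 * b) % 15 == j).length

/-- the table of `w17` -/
def T17 : List (List ℕ) := [
  [1, 0, 0, 0, 0, 0, 0, 0, 0, 0, 0, 0, 0, 0, 0, 0, 0],
  [0, 1, 0, 0, 0, 0, 0, 0, 0, 0, 0, 0, 0, 0, 0, 0, 1],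
  [0, 0, 1, 0, 0, 0, 0, 0, 0, 0, 0, 0, 0, 0, 0, 1, 0],
  [0, 1, 0, 1, 0, 0, 0, 0, 0, 0, 0, 0, 0, 0, 1, 0, 1],
  [0, 0, 0, 0, 1, 0, 0, 0, 0, 0, 0, 0, 0, 1, 0, 0, 0],
  [0, 0, 0, 1, 0, 1, 0, 0, 0, 0, 0, 0, 1, 0, 1, 0, 0],
  [0, 0, 1, 0, 0, 0, 1, 0, 0, 0, 0, 1, 0, 0, 0, 1, 0],
  [0, 1, 0, 1, 0, 1, 0, 1, 0, 0, 1, 0, 1, 0, 1, 0, 1],
  [0, 0, 0, 0, 0, 0, 0, 0, 1, 1, 0, 0, 0, 0, 0, 0, 0],
  [0, 0, 0, 0, 0, 0, 0, 1, 1, 1, 1, 0, 0, 0, 0, 0, 0],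
  [0, 0, 0, 0, 0, 0, 1, 1, 0, 0, 1, 1, 0, 0, 0, 0, 0],
  [0, 0, 0, 0, 0, 1, 1, 1, 1, 1, 1, 1, 1, 0, 0, 0, 0],
  [0, 0, 0, 0, 1, 1, 0, 0, 0, 0, 0, 0, 1, 1, 0, 0, 0],
  [0, 0, 0, 1, 1, 1, 1, 0, 0, 0, 0, 1, 1, 1, 1, 0, 0],
  [0, 0, 1, 1, 0, 0, 1, 1, 0, 0, 1, 1, 0, 0, 1, 1, 0],
  [0, 1, 1, 1, 1, 1, 1, 1, 1, 1, 1, 1, 1, 1, 1, 1, 1]]

/-- the table of `w15` -/
def T15 : List (List ℕ) := [
  [1, 0, 0, 0, 0, 0, 0, 0, 0, 0, 0, 0, 0, 0, 0],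
  [0, 1, 0, 0, 0, 0, 0, 0, 0, 0, 0, 0, 0, 0, 1],
  [0, 0, 1, 0, 0, 0, 0, 0, 0, 0, 0, 0, 0, 1, 0],
  [0, 1, 0, 1, 0, 0, 0, 0, 0, 0, 0, 0, 1, 0, 1],
  [0, 0, 0, 0, 1, 0, 0, 0, 0, 0, 0, 1, 0, 0, 0],
  [0, 0, 0, 1, 0, 1, 0, 0, 0, 0, 1, 0, 1, 0, 0],
  [0, 0, 1, 0, 0, 0, 1, 0, 0, 1, 0, 0, 0, 1, 0],
  [0, 1, 0, 1, 0, 1, 0, 1, 1, 0, 1, 0, 1, 0, 1],
  [0, 0, 0, 0, 0, 0, 0, 1, 1, 0, 0, 0, 0, 0, 0],
  [0, 0, 0, 0, 0, 0, 1, 1, 1, 1, 0, 0, 0, 0, 0],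
  [0, 0, 0, 0, 0, 1, 1, 0, 0, 1, 1, 0, 0, 0, 0],
  [0, 0, 0, 0, 1, 1, 1, 1, 1, 1, 1, 1, 0, 0, 0],
  [0, 0, 0, 1, 1, 0, 0, 0, 0, 0, 0, 1, 1, 0, 0],
  [0, 0, 1, 1, 1, 1, 0, 0, 0, 0, 1, 1, 1, 1, 0],
  [0, 1, 1, 0, 0, 1, 1, 0, 0, 1, 1, 0, 0, 1, 1],
  [2, 1, 1, 1, 1, 1, 1, 1, 1, 1, 1, 1, 1, 1, 1]]

theorem w17_eq : ∀ b < 16, ∀ j < 17, w17 b j = (T17.getD b []).getD j 0 := by decide +kernel

theorem w15_eq : ∀ b < 16, ∀ j < 15, w15 b j = (T15.getD b []).getD j 0 := by decide +kernel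

theorem w17_neg : ∀ b < 16, ∀ j < 17, w17 b ((17 - j) % 17) = w17 b j := by decide +kernel

theorem w15_neg : ∀ b < 16, ∀ j < 15, w15 b ((15 - j) % 15) = w15 b j := by decide +kernel

theorem w17_zero : ∀ b < 16, w17 b 0 = if b = 0 then 1 else 0 := by decide +kernel

set_option maxHeartbeats 2000000 in
/-- **the two tables determine the multiplicities** -/
theorem uniq (m n : ℕ → ℕ)
    (h17 : ∀ j < 17, ∑ b ∈ Finset.range 16, m b * w17 b j = ∑ b ∈ Finset.range 16, n b * w17 b j)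
    (h15 : ∀ j < 15, ∑ b ∈ Finset.range 16, m b * w15 b j = ∑ b ∈ Finset.range 16, n b * w15 b j) :
    ∀ b < 16, m b = n b := by
  have a0 := h17 0 (by norm_num)
  have a1 := h17 1 (by norm_num)
  have a2 := h17 2 (by norm_num)
  have a3 := h17 3 (by norm_num)
  have a4 := h17 4 (by norm_num)
  have a5 := h17 5 (by norm_num)
  have a6 := h17 6 (by norm_num)
  have a7 := h17 7 (by norm_num)
  have a8 := h17 8 (by norm_num)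
  have b0 := h15 0 (by norm_num)
  have b1 := h15 1 (by norm_num)
  have b2 := h15 2 (by norm_num)
  have b3 := h15 3 (by norm_num)
  have b4 := h15 4 (by norm_num)
  have b5 := h15 5 (by norm_num)
  have b6 := h15 6 (by norm_num)
  have b7 := h15 7 (by norm_num)
  simp [Finset.sum_range_succ, w17_eq, w15_eq, T17, T15] at a0 a1 a2 a3 a4 a5 a6 a7 a8 b0 b1 b2 b3 b4 b5 b6 b7
  intro b hb
  interval_cases b <;> omega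

end Cfsg.Agent.H179.L16
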